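import Groth.Prelude.Def_AlgSpSub
import Groth.Agent.Lib.AlgSpace.QCQS
import Groth.Agent.Lib.AlgSpace.Sub
import Groth.Agent.Lib.AlgSpace.Points
import Groth.Agent.Lib.AlgSpace.Chart
import Groth.Agent.Lib.AlgSpDecent.RedInduced

/-!
# Elementary distinguished squares and open subspaces
-/

universe u

set_option backward.isDefEq.respectTransparency.types false

open CategoryTheory CategoryTheory.Limits AlgebraicGeometry AlgSp Topology
open Groth.Agent.AlgSpace Groth.Agent.AlgSpDecent

namespace Groth.Agent.Induction15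

variable {S : Scheme.{u}}

theorem mono_openImm {A B : Sp S} {f : A ⟶ B} (hf : RepWith @IsOpenImmersion f) : Mono f :=
  mono_of_isImmersion (repWith_mono (fun _ _ g (_ : IsOpenImmersion g) => (inferInstance : IsImmersion g)) hf)

theorem isEtaleMor_comp {A B C : Sp S} {f : A ⟶ B} {g : B ⟶ C} (hf : IsEtaleMor f) (hg : IsEtaleMor g) :
    IsEtaleMor (f ≫ g) := fun U φ hφ => by
  have := hg _ (hf φ hφ)
  rwa [Category.assoc] at this

theorem isEtaleMor_openImm {A B : Sp S} {f : A ⟶ B} (hf : RepWith @IsOpenImmersion f) : IsEtaleMor f :=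
  fun _ _ hφ => repWith_comp hφ (repWith_mono (fun _ _ g (_ : IsOpenImmersion g) => (inferInstance : Etale g)) hf)

theorem repWith_openImm_factor {A B C : Sp S} {f : A ⟶ B} {g : B ⟶ C} (hg : RepWith @IsOpenImmersion g)
    (hfg : RepWith @IsOpenImmersion (f ≫ g)) : RepWith @IsOpenImmersion f :=
  have := mono_openImm hg
  repWith_of_isPullback (isPullback_of_mono f g) hfg

/-- An open subspace is quasi-compact iff its image is compact. -/
theorem isQuasiCompactSp_iff_isCompact_range {A : Sp S} {B : Space S} {f : A ⟶ B.obj}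
    (hf : RepWith @IsOpenImmersion f) : IsQuasiCompactSp A ↔ IsCompact (Set.range (Points.map f)) := by
  rw [isQuasiCompactSp_iff (isAlgSpace_of_representable hf.1 B.property), ← isCompact_univ_iff,
    (isEmbedding_map_of_immersion B.property
      (repWith_mono (fun _ _ g (_ : IsOpenImmersion g) => (inferInstance : IsImmersion g)) hf)).1.isCompact_iff,
    Set.image_univ]

/-- An open subspace of a quasi-separated space is quasi-separated. -/
theorem isQuasiSeparatedSp_openImm {A B : Sp S} {f : A ⟶ B} (hf : RepWith @IsOpenImmersion f)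
    (hB : IsQuasiSeparatedSp B) : IsQuasiSeparatedSp A :=
  have := mono_openImm hf
  isQuasiSeparatedSp_of_mor (repWith_diagonal_of_mono f) hB

/-- Affine schemes are quasi-compact and quasi-separated spaces. -/
theorem qc_qs_of_iso_affine {F : Sp S} (T : Over S) [IsAffine T.left] (e : (yon S).obj T ≅ F) :
    IsQuasiCompactSp F ∧ IsQuasiSeparatedSp F := by
  constructor
  · rw [isQuasiCompactSp_iff (IsAlgSpace.of_iso (IsAlgSpace.yon_obj T) e)]
    have := compactSpace_yon_of_affine T
    exact compactSpace_of_surjective e.hom (bijective_map_iso (e := e.hom)).2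
  · refine isQuasiSeparatedSp_of_mor (f := e.inv) (repWith_diagonal_of_mono e.inv)
      (isQuasiSeparatedSp_of_toBase ?_)
    have h : (yon S).map (Over.mkIdTerminal.from T) = toBase ((yon S).obj T) := isTerminalBase.hom_ext _ _
    unfold IsQuasiSeparatedMor
    rw [← h]
    exact (repWith_diagonal_yon_map_iff _ _).2
      (inferInstanceAs (QuasiCompact (pullback.diagonal (Over.mkIdTerminal.from T).left)))

/-- A morphism lifting the complement, uniquely, gives an elementary distinguished square. -/
theorem isElemDistSq_of_lift {U V W : Sp S} {j : U ⟶ W} {f : V ⟶ W} (hj : RepWith @IsOpenImmersion j)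
    (hf : IsEtaleMor f) {T : Sp S} (i : T ⟶ W) (hi : IsRedInduced (Set.range (Points.map j))ᶜ i)
    (σ : T ⟶ V) (hσ : σ ≫ f = i)
    (huniq : ∀ ⦃Q : Sp S⦄ (a : Q ⟶ T) (b : Q ⟶ V), a ≫ i = b ≫ f → b = a ≫ σ) :
    IsElemDistSq j f := by
  refine ⟨hj, hf, T, T, i, 𝟙 T, σ, hi, ?_, inferInstance⟩
  refine IsPullback.of_isLimit' ⟨by rw [Category.id_comp, hσ]⟩
    (PullbackCone.IsLimit.mk _ (fun c => c.fst) (fun c => Category.comp_id _)
      (fun c => (huniq c.fst c.snd c.condition).symm) (fun c m h₁ _ => by simpa using h₁))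

/-- Two open subspaces covering a space form an elementary distinguished square. -/
theorem isElemDistSq_of_openCover {U V : Sp S} {W : Space S} {j : U ⟶ W.obj} {f : V ⟶ W.obj}
    (hj : RepWith @IsOpenImmersion j) (hf : RepWith @IsOpenImmersion f)
    (h : Set.range (Points.map j) ∪ Set.range (Points.map f) = Set.univ) : IsElemDistSq j f := by
  have hO : IsOpen (Set.range (Points.map j)) := isOpen_range_map_of_openImmersion hj
  obtain ⟨T, i, hi⟩ := RedInduced.exists_isRedInduced W _ hO.isClosed_compl
  obtain ⟨σ, hσ⟩ := exists_factor_of_range hf i.hom (by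
    rw [hi.2.1]
    exact fun x hx => ((Set.eq_univ_iff_forall.1 h x).resolve_left hx))
  have := mono_openImm hf
  refine isElemDistSq_of_lift hj (isEtaleMor_openImm hf) i.hom hi σ hσ fun Q a b e => ?_
  rw [← cancel_mono f, Category.assoc, hσ, e]

end Groth.Agent.Induction15
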