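import Groth.Prelude.Def_AlgSpEt
import Groth.Agent.Lib.Induction15.Basic
import Groth.Agent.S10419
import Groth.Agent.S10193

/-!
# Enlarging open subspaces by affine pieces
-/

universe u

set_option backward.isDefEq.respectTransparency.types false

open CategoryTheory CategoryTheory.Limits AlgebraicGeometry AlgSp Topology
open Groth.Agent.AlgSpace Groth.Agent.AlgSpDecent

namespace Groth.Agent.Induction15

variable {S : Scheme.{u}}

theorem repWith_openImm_id (X : Space S) : RepWith @IsOpenImmersion (𝟙 X : X ⟶ X).hom :=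
  (repWith_isMultiplicative (S := S) @IsOpenImmersion).id_mem X.obj

/-- One step: adding the image of an affine piece of a stratum chart. -/
theorem isElemDistSq_piece (X : Space S) {W₁ W₂ U T : Space S} {j₁ : W₁ ⟶ X} {j₂ : W₂ ⟶ X}
    {k : W₁ ⟶ W₂} {jp : U ⟶ X} {it : T ⟶ U} {V : Over S} {fp : (yon S).obj V ⟶ U.obj}
    (h₁ : RepWith @IsOpenImmersion j₁.hom) (h₂ : RepWith @IsOpenImmersion j₂.hom) (hk : k ≫ j₂ = j₁)
    (hjp : RepWith @IsOpenImmersion jp.hom) (hfp : RepWith @Etale fp)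
    (hit : RepWith @IsClosedImmersion it.hom)
    (hT : Set.range (Points.map jp.hom) ⊆
      Set.range (Points.map j₁.hom) ∪ Set.range (Points.map (it ≫ jp).hom))
    (hiso : ∀ (P : Sp S) (fst : P ⟶ T.obj) (snd : P ⟶ (yon S).obj V), IsPullback fst snd it.hom fp → IsIso fst)
    (A : V.left.Opens)
    (hr : Set.range (Points.map j₂.hom) =
      Set.range (Points.map j₁.hom) ∪ Points.ofPt (fp ≫ jp.hom) '' (A : Set ↥V.left)) :
    ∃ f : (yon S).obj (Over.mk (A.ι ≫ V.hom)) ⟶ W₂.obj, IsElemDistSq k.hom f := by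
  let a : Over.mk (A.ι ≫ V.hom) ⟶ V := Over.homMk A.ι rfl
  have := mono_openImm h₂
  have := mono_openImm hjp
  have := Groth.Agent.AlgSpDescent.mono_of_repWith_closedImmersion hit
  have hk' : k.hom ≫ j₂.hom = j₁.hom := congrArg (fun q => q.hom) hk
  have ha : RepWith @IsOpenImmersion ((yon S).map a) :=
    (repWith_yon_map_iff _ _).2 (inferInstanceAs (IsOpenImmersion A.ι))
  have := mono_openImm ha
  have hgr : Set.range (Points.map ((yon S).map a ≫ fp ≫ jp.hom)) ⊆ Set.range (Points.map j₂.hom) := by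
    rintro _ ⟨z, rfl⟩
    obtain ⟨z, rfl⟩ := (Points.schemeEquiv _).surjective z
    refine hr.ge (Or.inr ⟨a.left z, ?_, ?_⟩)
    · exact A.range_ι.le ⟨z, rfl⟩
    · change _ = Points.map _ (Points.ofScheme _ z)
      rw [← Points.ofPt_eq_map_ofScheme, ofPt_map_comp]
  obtain ⟨f, hf⟩ := exists_factor_of_range h₂ _ hgr
  have hfet : RepWith @Etale f :=
    repWith_of_isPullback (isPullback_of_mono f j₂.hom) (by
      rw [hf]
      exact repWith_comp ((repWith_yon_map_iff _ _).2 (inferInstanceAs (Etale A.ι)))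
        (repWith_comp hfp (repWith_mono (fun _ _ g (_ : IsOpenImmersion g) => (inferInstance : Etale g)) hjp)))
  have hkop : RepWith @IsOpenImmersion k.hom := repWith_openImm_factor h₂ (by rw [hk']; exact h₁)
  obtain ⟨T₂, i₂, hi₂⟩ := RedInduced.exists_isRedInduced W₂ _
    (isOpen_range_map_of_openImmersion hkop).isClosed_compl
  -- the points of the new closed part
  have hout : ∀ z : Points T₂.obj,
      Points.map (i₂.hom ≫ j₂.hom) z ∉ Set.range (Points.map j₁.hom) := fun z ⟨y, hy⟩ => by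
    refine hi₂.2.1.le ⟨z, rfl⟩ ⟨y, (isEmbedding_map_of_immersion X.property
      (repWith_mono (fun _ _ g (_ : IsOpenImmersion g) => (inferInstance : IsImmersion g)) h₂)).1.injective ?_⟩
    rw [← Points.map_comp, hk', hy, Points.map_comp]
  have hin : ∀ z : Points T₂.obj, ∃ v ∈ A,
      Points.ofPt (fp ≫ jp.hom) v = Points.map (i₂.hom ≫ j₂.hom) z := fun z => by
    rcases hr.le ⟨Points.map i₂.hom z, (Points.map_comp _ _ _).symm⟩ with h | ⟨v, hv, hv'⟩
    · exact absurd h (hout z)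
    · exact ⟨v, hv, hv'⟩
  have hjr : Set.range (Points.map (i₂.hom ≫ j₂.hom)) ⊆ Set.range (Points.map jp.hom) := by
    rintro _ ⟨z, rfl⟩
    obtain ⟨v, -, hv⟩ := hin z
    exact ⟨Points.ofPt fp v, by rw [Points.map_ofPt, hv]⟩
  obtain ⟨l, hl⟩ := exists_factor_of_range hjp _ hjr
  have hlt : Set.range (Points.map l) ⊆ Set.range (Points.map it.hom) := by
    rintro _ ⟨z, rfl⟩
    have e : Points.map jp.hom (Points.map l z) = Points.map (i₂.hom ≫ j₂.hom) z := by
      rw [← Points.map_comp, hl]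
    rcases hT ⟨Points.map l z, rfl⟩ with h | ⟨y, hy⟩
    · exact absurd (e ▸ h) (hout z)
    · exact ⟨y, (isEmbedding_map_of_immersion X.property
        (repWith_mono (fun _ _ g (_ : IsOpenImmersion g) => (inferInstance : IsImmersion g)) hjp)).1.injective
        ((Points.map_comp _ _ _).symm.trans hy)⟩
  obtain ⟨m, hm⟩ := (Groth.Agent.S10193.result it hit hi₂.2.2 (ObjectProperty.homMk l : T₂ ⟶ U)).2 hlt
  have hm' : m.hom ≫ it.hom = l := congrArg (fun q => q.hom) hm
  have sq := IsPullback.of_hasPullback it.hom fp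
  have : IsIso (pullback.fst it.hom fp) := hiso _ _ _ sq
  let σ₀ : T₂.obj ⟶ (yon S).obj V := m.hom ≫ inv (pullback.fst it.hom fp) ≫ pullback.snd it.hom fp
  have huniq : ∀ ⦃Q : Sp S⦄ (c : Q ⟶ T.obj) (b : Q ⟶ (yon S).obj V), c ≫ it.hom = b ≫ fp →
      b = c ≫ inv (pullback.fst it.hom fp) ≫ pullback.snd it.hom fp := fun Q c b e => by
    have h : pullback.lift c b e = c ≫ inv (pullback.fst it.hom fp) := by
      rw [IsIso.eq_comp_inv, pullback.lift_fst]
    rw [← Category.assoc, ← h, pullback.lift_snd]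
  have hσ₀ : σ₀ ≫ fp = l := by
    simp only [σ₀, Category.assoc, ← pullback.condition, IsIso.inv_hom_id_assoc, hm']
  have hσA : Set.range (Points.map σ₀) ⊆ Set.range (Points.map ((yon S).map a)) := by
    rintro _ ⟨z, rfl⟩
    obtain ⟨v, hvA, hv⟩ := hin z
    have hv' : Points.ofPt fp v = Points.map it.hom (Points.map m.hom z) := by
      refine (isEmbedding_map_of_immersion X.property
        (repWith_mono (fun _ _ g (_ : IsOpenImmersion g) => (inferInstance : IsImmersion g)) hjp)).1.injective ?_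
      rw [Points.map_ofPt, hv, ← Points.map_comp m.hom, hm', ← Points.map_comp, hl]
    rw [Points.ofPt_eq_map_ofScheme] at hv'
    obtain ⟨w, hw, hw'⟩ := exists_point_lift sq (Points.map m.hom z) (Points.ofScheme V v) hv'.symm
    have : Points.map σ₀ z = Points.ofScheme V v := by
      rw [← hw']
      simp only [σ₀, Points.map_comp]
      rw [← hw, ← Points.map_comp _ (inv _), IsIso.hom_inv_id, Points.map_id]
    rw [this]
    obtain ⟨a', ha'⟩ := A.range_ι.ge hvA
    exact ⟨Points.ofScheme _ a', by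
      rw [← Points.ofPt_eq_map_ofScheme, ← ha', ofPt_map_eq]
      rfl⟩
  obtain ⟨σ, hσ⟩ := exists_factor_of_range ha σ₀ hσA
  refine ⟨f, isElemDistSq_of_lift hkop (isEtaleMor_of_repWith f hfet) i₂.hom hi₂ σ ?_ fun Q c b e => ?_⟩
  · rw [← cancel_mono j₂.hom, Category.assoc, hf, reassoc_of% hσ, reassoc_of% hσ₀, hl]
  · have e' : (c ≫ m.hom) ≫ it.hom = (b ≫ (yon S).map a) ≫ fp := by
      rw [Category.assoc, hm', ← cancel_mono jp.hom]
      simp only [Category.assoc, hl, ← hf]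
      rw [reassoc_of% e]
    have := huniq _ _ e'
    rw [← cancel_mono ((yon S).map a), Category.assoc, hσ, this]
    simp only [σ₀, Category.assoc]

/-- Induction by enlarging an open subspace by affine elementary distinguished squares. -/
theorem enlarge_induction [QuasiSeparatedSpace ↥S] (X : Space S) (hXc : IsQuasiCompactSp X.obj)
    (hXs : IsQuasiSeparatedSp X.obj) (P : ∀ U : Space S, (U ⟶ X) → Prop)
    (W : Space S) (jW : W ⟶ X) (hjW : RepWith @IsOpenImmersion jW.hom)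
    (hWc : IsQuasiCompactSp W.obj) (h1 : P W jW)
    (h2 : ∀ (W₁ W₂ V : Space S) (j₁ : W₁ ⟶ X) (j₂ : W₂ ⟶ X) (k : W₁ ⟶ W₂) (m : W ⟶ W₁) (f : V ⟶ W₂),
      RepWith @IsOpenImmersion j₁.hom → RepWith @IsOpenImmersion j₂.hom →
      k ≫ j₂ = j₁ → m ≫ j₁ = jW →
      IsQuasiCompactSp W₁.obj → IsQuasiCompactSp W₂.obj →
      (∃ T : Over S, IsAffine T.left ∧ Nonempty ((yon S).obj T ≅ V.obj)) →
      IsElemDistSq k.hom f.hom → P W₁ j₁ → P W₂ j₂) :
    P X (𝟙 X) := by
  obtain ⟨n, Uo, j, k, T, i, hj, hkj, h1', hemp, hi, hV⟩ := Groth.Agent.S10419.result X hXc hXs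
  let D : ℕ → Set (Points X.obj) := fun p => Set.range (Points.map (j p).hom)
  let G : Set (Points X.obj) → Prop := fun O => ∃ (W₁ : Space S) (j₁ : W₁ ⟶ X) (m : W ⟶ W₁),
    RepWith @IsOpenImmersion j₁.hom ∧ m ≫ j₁ = jW ∧ Set.range (Points.map j₁.hom) = O ∧
      IsQuasiCompactSp W₁.obj ∧ P W₁ j₁
  have step : ∀ p (V : Over S) (fp : (yon S).obj V ⟶ (Uo p).obj), RepWith @Etale fp →
      (∀ (Q : Sp S) (fst : Q ⟶ (T p).obj) (snd : Q ⟶ (yon S).obj V),
        IsPullback fst snd (i p).hom fp → IsIso fst) →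
      ∀ O, G O → D (p + 1) ⊆ O → ∀ (A : V.left.Opens), IsAffineOpen A →
      ∀ (W₂ : Space S) (j₂ : W₂ ⟶ X), RepWith @IsOpenImmersion j₂.hom →
        Set.range (Points.map j₂.hom) = O ∪ Points.ofPt (fp ≫ (j p).hom) '' (A : Set ↥V.left) →
        ∃ m₂ : W ⟶ W₂, m₂ ≫ j₂ = jW ∧ IsQuasiCompactSp W₂.obj ∧ P W₂ j₂ := by
    intro p V fp hfe hiso O ⟨W₁, j₁, m, hj₁, hm, hO, hqc, hP⟩ hD A hA W₂ j₂ hj₂ hr
    obtain ⟨g, hg⟩ := exists_factor_of_range hj₂ j₁.hom (by rw [hr, hO]; exact Set.subset_union_left)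
    let k₂ : W₁ ⟶ W₂ := ObjectProperty.homMk g
    have hk₂ : k₂ ≫ j₂ = j₁ := ObjectProperty.hom_ext _ hg
    have hT : Set.range (Points.map (j p).hom) ⊆
        Set.range (Points.map j₁.hom) ∪ Set.range (Points.map (i p ≫ j p).hom) := by
      rintro _ ⟨z, rfl⟩
      rw [hO]
      by_cases hz : z ∈ Set.range (Points.map (k p).hom)
      · obtain ⟨y, rfl⟩ := hz
        refine Or.inl (hD ⟨y, ?_⟩)
        rw [← Points.map_comp]
        exact congrArg (fun q : Uo (p + 1) ⟶ X => Points.map q.hom y) (hkj p).symm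
      · obtain ⟨y, hy⟩ := (hi p).2.1.ge hz
        refine Or.inr ⟨y, ?_⟩
        change Points.map ((i p).hom ≫ (j p).hom) y = _
        rw [Points.map_comp, hy]
    obtain ⟨f, hf⟩ := isElemDistSq_piece X hj₁ hj₂ hk₂ (hj p) hfe (hi p).1 hT hiso A (by rw [hr, hO])
    have hc₂ : IsQuasiCompactSp W₂.obj := by
      rw [isQuasiCompactSp_iff_isCompact_range hj₂, hr, ← hO]
      exact ((isQuasiCompactSp_iff_isCompact_range hj₁).1 hqc).union
        (hA.isCompact.image (Points.continuous_ofPt _))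
    refine ⟨m ≫ k₂, by rw [Category.assoc, hk₂, hm], hc₂,
      h2 W₁ W₂ ⟨_, IsAlgSpace.yon_obj (Over.mk (A.ι ≫ V.hom))⟩ j₁ j₂ k₂ m (ObjectProperty.homMk f)
        hj₁ hj₂ hk₂ hm hqc hc₂ ⟨Over.mk (A.ι ≫ V.hom), hA, ⟨Iso.refl _⟩⟩ hf hP⟩
  have main : ∀ q p, p + q = n + 1 → 1 ≤ p → ∃ O, G O ∧ D p ⊆ O := by
    intro q
    induction q with
    | zero =>
      intro p hp _
      refine ⟨_, ⟨W, jW, 𝟙 W, hjW, Category.id_comp _, rfl, hWc, h1⟩, ?_⟩
      rw [Nat.add_zero] at hp
      subst hp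
      rintro _ ⟨z, rfl⟩
      exact hemp.elim z
    | succ q ih =>
      intro p hp hp1
      obtain ⟨O, hO, hD⟩ := ih (p + 1) (by omega) (by omega)
      obtain ⟨V, fp, -, hVc, hfe, hfs, hiso⟩ := hV p hp1
      have key : ∀ (B : V.left.Opens), IsCompact (B : Set ↥V.left) →
          ∃ O', G O' ∧ O ⊆ O' ∧ Points.ofPt (fp ≫ (j p).hom) '' (B : Set ↥V.left) ⊆ O' := by
        intro B hB
        refine compact_open_induction_on B hB ⟨O, hO, subset_rfl, by simp⟩ fun B _ A ⟨O', hO', hle, hB'⟩ => ?_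
        have hO'o : IsOpen (O' ∪ Points.ofPt (fp ≫ (j p).hom) '' (A.1 : Set ↥V.left)) := by
          obtain ⟨W₁, j₁, m, hj₁, -, rfl, -, -⟩ := hO'
          exact (isOpen_range_map_of_openImmersion hj₁).union (isOpenMap_ofPt _ (repWith_comp hfe
            (repWith_mono (fun _ _ g (_ : IsOpenImmersion g) => (inferInstance : Etale g)) (hj p))) _ A.1.isOpen)
        obtain ⟨m₂, hm₂, hc₂, hP₂⟩ := step p V fp hfe hiso O' hO' (hD.trans hle) A.1 A.2
          ⟨openSub _, isAlgSpace_of_representable (repWith_openSubι hO'o).1 X.property⟩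
          (ObjectProperty.homMk (openSubι _)) (repWith_openSubι hO'o) (range_openSubι _)
        refine ⟨_, ⟨_, _, m₂, repWith_openSubι hO'o, hm₂, range_openSubι _, hc₂, hP₂⟩,
          hle.trans Set.subset_union_left, ?_⟩
        rw [TopologicalSpace.Opens.coe_sup, Set.image_union]
        exact Set.union_subset_union_left _ hB'
      obtain ⟨O', hO', hle, hsub⟩ := key ⊤ (by simpa using isCompact_univ)
      refine ⟨O', hO', ?_⟩
      rintro _ ⟨z, rfl⟩
      obtain ⟨v, rfl⟩ := surjective_ofPt hfs z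
      exact hsub ⟨v, trivial, (Points.map_ofPt _ _ _).symm⟩
  obtain ⟨O, hO, hD⟩ := main n 1 (by omega) le_rfl
  have hO1 : O = Set.univ := Set.eq_univ_of_forall fun x => by
    have : IsIso (j 1).hom := inferInstanceAs (IsIso ((ObjectProperty.ι _).map (j 1)))
    exact hD ((bijective_map_iso (e := (j 1).hom)).2 x)
  obtain ⟨V, fp, -, -, hfe, -, hiso⟩ := hV 1 le_rfl
  obtain ⟨-, -, -, hP⟩ := step 1 V fp hfe hiso O hO (by rw [hO1]; exact Set.subset_univ _) ⊥
    (isAffineOpen_bot _) X (𝟙 X) (repWith_openImm_id X) (by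
      rw [hO1, Set.univ_union, Set.range_eq_univ]
      exact (bijective_map_iso (e := (𝟙 X : X ⟶ X).hom)).2)
  exact hP

end Groth.Agent.Induction15
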