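import Groth.Agent.Lib.Induction15.Enlarge
import Groth.Agent.Lib.AlgSpace.EtaleApps

/-!
# Induction over quasi-compact quasi-separated spaces etale over a space
-/

universe u

set_option backward.isDefEq.respectTransparency.types false

open CategoryTheory CategoryTheory.Limits AlgebraicGeometry AlgSp Topology
open Groth.Agent.AlgSpace Groth.Agent.AlgSpDecent

namespace Groth.Agent.Induction15

variable {S : Scheme.{u}} {X : Space S}

/-- An open immersion with given image out of an open subscheme is an isomorphism onto it. -/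
theorem exists_iso_yon_of_range {Y U : Sp S} {T : Over S} {g : (yon S).obj T ⟶ Y}
    (hg : RepWith @IsOpenImmersion g) {c : U ⟶ Y} (hc : RepWith @IsOpenImmersion c) (A : T.left.Opens)
    (hr : Set.range (Points.map c) = Points.ofPt g '' (A : Set ↥T.left)) :
    Nonempty ((yon S).obj (Over.mk (A.ι ≫ T.hom)) ≅ U) := by
  let a : Over.mk (A.ι ≫ T.hom) ⟶ T := Over.homMk A.ι rfl
  have ha : RepWith @IsOpenImmersion ((yon S).map a ≫ g) :=
    repWith_comp ((repWith_yon_map_iff _ _).2 (inferInstanceAs (IsOpenImmersion A.ι))) hg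
  have hra : Set.range (Points.map ((yon S).map a ≫ g)) = Set.range (Points.map c) := by
    rw [hr, ← range_ofPt_restrict g A]
    ext x
    constructor
    · rintro ⟨z, rfl⟩
      obtain ⟨z, rfl⟩ := (Points.schemeEquiv _).surjective z
      exact ⟨z, Points.ofPt_eq_map_ofScheme _ _⟩
    · rintro ⟨z, rfl⟩
      exact ⟨_, (Points.ofPt_eq_map_ofScheme _ _).symm⟩
  obtain ⟨u, hu⟩ := exists_factor_of_range hc _ hra.le
  obtain ⟨v, hv⟩ := exists_factor_of_range ha c hra.ge
  have := mono_openImm hc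
  have := mono_openImm ha
  exact ⟨⟨u, v, by rw [← cancel_mono ((yon S).map a ≫ g), Category.assoc, hv, hu, Category.id_comp],
    by rw [← cancel_mono c, Category.assoc, hu, hv, Category.id_comp]⟩⟩

/-- Two open subspaces and their intersection form a pullback square. -/
theorem isPullback_openImm_inter {Y A B C : Sp S} {a : A ⟶ Y} {b : B ⟶ Y} {p : C ⟶ A} {q : C ⟶ B}
    (ha : RepWith @IsOpenImmersion a) (hb : RepWith @IsOpenImmersion b) (w : p ≫ a = q ≫ b)
    (hc : RepWith @IsOpenImmersion (q ≫ b))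
    (hr : Set.range (Points.map a) ∩ Set.range (Points.map b) ⊆ Set.range (Points.map (q ≫ b))) :
    IsPullback p q a b := by
  have := mono_openImm ha
  have := mono_openImm hb
  have := mono_openImm hc
  have := mono_of_mono q b
  refine isPullback_of_mono_lifts w fun T y x e => ?_
  obtain ⟨r, hr'⟩ := exists_factor_of_range hc (y ≫ b) (by
    rintro _ ⟨z, rfl⟩
    exact hr ⟨⟨Points.map x z, by rw [← Points.map_comp, e]⟩, ⟨Points.map y z, (Points.map_comp _ _ _).symm⟩⟩)
  exact ⟨r, by rw [← cancel_mono b, Category.assoc, hr']⟩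

/-- The object of an open subspace of an object of the etale site. -/
def openObj (E : EtSpOver X) {U : Space S} (c : U ⟶ E.obj.left) (hc : RepWith @IsOpenImmersion c.hom) :
    EtSpOver X :=
  ⟨Over.mk (c ≫ E.obj.hom), isEtaleMor_comp (isEtaleMor_openImm hc) E.property⟩

/-- A morphism of the etale site from one over the base. -/
def homOf {A B : EtSpOver X} (g : A.obj.left ⟶ B.obj.left) (w : g ≫ B.obj.hom = A.obj.hom) : A ⟶ B :=
  ObjectProperty.homMk (Over.homMk g w)

section

variable (B P : EtSpOver X → Prop)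
  (h2 : ∀ (W U : EtSpOver X) (j : U ⟶ W), B W → RepWith @IsOpenImmersion j.hom.left.hom →
    IsQuasiCompactSp U.obj.left.obj → B U)
  (h3 : ∀ (V : EtSpOver X) (T : Over S), IsAffine T.left →
    Nonempty ((yon S).obj T ≅ V.obj.left.obj) → B V ∧ P V)
  (h4 : ∀ (W U V UV : EtSpOver X) (j : U ⟶ W) (f : V ⟶ W) (p : UV ⟶ U) (q : UV ⟶ V),
    B W → IsQuasiCompactSp U.obj.left.obj →
    (∃ T : Over S, IsAffine T.left ∧ Nonempty ((yon S).obj T ≅ V.obj.left.obj)) →
    IsElemDistSq j.hom.left.hom f.hom.left.hom →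
    IsPullback p.hom.left.hom q.hom.left.hom j.hom.left.hom f.hom.left.hom →
    P U → P V → P UV → P W)

include h2 h3 h4

/-- Quasi-compact open subspaces of affine objects. -/
theorem prop_open_of_affine (V : EtSpOver X) (T : Over S) [IsAffine T.left]
    (e : (yon S).obj T ≅ V.obj.left.obj) (O : T.left.Opens) (hO : IsCompact (O : Set ↥T.left)) :
    ∀ (D : T.left.Opens), IsAffineOpen D → ∀ (U : EtSpOver X) (c : U ⟶ V),
      RepWith @IsOpenImmersion c.hom.left.hom →
      Set.range (Points.map c.hom.left.hom) = Points.ofPt e.hom '' ((O ⊓ D : T.left.Opens) : Set ↥T.left) →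
      P U := by
  have he : RepWith @IsOpenImmersion e.hom := MorphismProperty.of_isIso (RepWith (S := S) @IsOpenImmersion) e.hom
  have hinj : Function.Injective (Points.ofPt e.hom) := fun a b h => by
    rw [Points.ofPt_eq_map_ofScheme, Points.ofPt_eq_map_ofScheme] at h
    exact (Points.schemeEquiv T).injective ((bijective_map_iso (e := e.hom)).1 h)
  have hV : B V := (h3 V T ‹_› ⟨e⟩).1
  have haff : ∀ (A : T.left.Opens), IsAffineOpen A → ∀ (U : EtSpOver X) (c : U ⟶ V),
      RepWith @IsOpenImmersion c.hom.left.hom →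
      Set.range (Points.map c.hom.left.hom) = Points.ofPt e.hom '' (A : Set ↥T.left) →
      ∃ T' : Over S, IsAffine T'.left ∧ Nonempty ((yon S).obj T' ≅ U.obj.left.obj) :=
    fun A hA U c hc hr => ⟨Over.mk (A.ι ≫ T.hom), hA, exists_iso_yon_of_range he hc A hr⟩
  have hopen : ∀ A : T.left.Opens, IsOpen (Points.ofPt e.hom '' (A : Set ↥T.left)) := fun A =>
    isOpenMap_ofPt e.hom (repWith_mono (fun _ _ g (_ : IsOpenImmersion g) => (inferInstance : Etale g)) he)
      _ A.isOpen
  refine compact_open_induction_on O hO ?_ ?_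
  · intro D _ U c hc hr
    rw [bot_inf_eq] at hr
    obtain ⟨T', hT', hi⟩ := haff ⊥ (isAffineOpen_bot _) U c hc hr
    exact (h3 U T' hT' hi).2
  · intro O hOc A ih D hD U c hc hr
    have hUc : IsQuasiCompactSp U.obj.left.obj := by
      rw [isQuasiCompactSp_iff_isCompact_range hc, hr]
      refine IsCompact.image ?_ (Points.continuous_ofPt _)
      exact QuasiSeparatedSpace.inter_isCompact _ _ (O ⊔ A.1).isOpen (hOc.union A.2.isCompact)
        D.isOpen hD.isCompact
    have hcw : c.hom.left ≫ V.obj.hom = U.obj.hom := Over.w c.hom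
    -- the open subspaces of `V`
    have mkU : ∀ A' : T.left.Opens, (Points.ofPt e.hom '' (A' : Set ↥T.left) ⊆
        Set.range (Points.map c.hom.left.hom)) → ∃ (U' : EtSpOver X) (c' : U' ⟶ V) (d : U' ⟶ U),
        d ≫ c = c' ∧ RepWith @IsOpenImmersion c'.hom.left.hom ∧ RepWith @IsOpenImmersion d.hom.left.hom ∧
        Set.range (Points.map c'.hom.left.hom) = Points.ofPt e.hom '' (A' : Set ↥T.left) := by
      intro A' hA'
      let U' : Space S := ⟨openSub (Points.ofPt e.hom '' (A' : Set ↥T.left)),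
        isAlgSpace_of_representable (repWith_openSubι (hopen A')).1 V.obj.left.property⟩
      let c' : U' ⟶ V.obj.left := ObjectProperty.homMk (openSubι _)
      have hc' : RepWith @IsOpenImmersion c'.hom := repWith_openSubι (hopen A')
      obtain ⟨d, hd⟩ := exists_factor_of_range hc c'.hom ((range_openSubι _).trans_subset hA')
      let d' : U' ⟶ U.obj.left := ObjectProperty.homMk d
      have hd' : d' ≫ c.hom.left = c' := ObjectProperty.hom_ext _ hd
      let gd : openObj V c' hc' ⟶ U := homOf d' (by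
        rw [← hcw]
        exact (Category.assoc _ _ _).symm.trans (congrArg (fun q => q ≫ V.obj.hom) hd'))
      refine ⟨openObj V c' hc', homOf c' rfl, gd, ObjectProperty.hom_ext _ (Over.OverMorphism.ext hd'),
        hc', repWith_openImm_factor hc (show RepWith @IsOpenImmersion (d ≫ c.hom.left.hom) from hd ▸ hc'), range_openSubι _⟩
    have hset : (((O ⊔ A.1) ⊓ D : T.left.Opens) : Set ↥T.left) =
        ((O ⊓ D : T.left.Opens) : Set ↥T.left) ∪ ((A.1 ⊓ D : T.left.Opens) : Set ↥T.left) := by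
      simp only [TopologicalSpace.Opens.coe_inf, TopologicalSpace.Opens.coe_sup, Set.union_inter_distrib_right]
    obtain ⟨U₁, c₁, d₁, e₁, hc₁, hd₁, r₁⟩ := mkU (O ⊓ D) (by
      rw [hr, hset]; exact Set.image_mono Set.subset_union_left)
    obtain ⟨U₂, c₂, d₂, e₂, hc₂, hd₂, r₂⟩ := mkU (A.1 ⊓ D) (by
      rw [hr, hset]; exact Set.image_mono Set.subset_union_right)
    obtain ⟨U₃, c₃, d₃, e₃, hc₃, hd₃, r₃⟩ := mkU (O ⊓ (A.1 ⊓ D)) (by
      rw [hr, hset]
      refine Set.image_mono (subset_trans ?_ Set.subset_union_right)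
      exact inf_le_right)
    have h₁ : d₁.hom.left.hom ≫ c.hom.left.hom = c₁.hom.left.hom :=
      congrArg (fun q : U₁ ⟶ V => q.hom.left.hom) e₁
    have h₂ : d₂.hom.left.hom ≫ c.hom.left.hom = c₂.hom.left.hom :=
      congrArg (fun q : U₂ ⟶ V => q.hom.left.hom) e₂
    have h₃ : d₃.hom.left.hom ≫ c.hom.left.hom = c₃.hom.left.hom :=
      congrArg (fun q : U₃ ⟶ V => q.hom.left.hom) e₃
    have := mono_openImm hc
    obtain ⟨p₀, hp₀⟩ := exists_factor_of_range hd₁ d₃.hom.left.hom (by
      rintro _ ⟨z, rfl⟩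
      obtain ⟨t, ⟨htO, -, htD⟩, ht⟩ := r₃.le ⟨z, rfl⟩
      obtain ⟨y, hy⟩ := r₁.ge ⟨t, ⟨htO, htD⟩, rfl⟩
      refine ⟨y, (isEmbedding_map_of_immersion V.obj.left.property
        (repWith_mono (fun _ _ g (_ : IsOpenImmersion g) => (inferInstance : IsImmersion g)) hc)).1.injective ?_⟩
      rw [← Points.map_comp, h₁, ← Points.map_comp, h₃, hy, ht])
    obtain ⟨q₀, hq₀⟩ := exists_factor_of_range hd₂ d₃.hom.left.hom (by
      rintro _ ⟨z, rfl⟩
      obtain ⟨t, ⟨-, htA⟩, ht⟩ := r₃.le ⟨z, rfl⟩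
      obtain ⟨y, hy⟩ := r₂.ge ⟨t, htA, rfl⟩
      refine ⟨y, (isEmbedding_map_of_immersion V.obj.left.property
        (repWith_mono (fun _ _ g (_ : IsOpenImmersion g) => (inferInstance : IsImmersion g)) hc)).1.injective ?_⟩
      rw [← Points.map_comp, h₂, ← Points.map_comp, h₃, hy, ht])
    have hp₀' : (ObjectProperty.homMk p₀ : U₃.obj.left ⟶ U₁.obj.left) ≫ d₁.hom.left = d₃.hom.left :=
      ObjectProperty.hom_ext _ hp₀
    have hq₀' : (ObjectProperty.homMk q₀ : U₃.obj.left ⟶ U₂.obj.left) ≫ d₂.hom.left = d₃.hom.left :=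
      ObjectProperty.hom_ext _ hq₀
    let p : U₃ ⟶ U₁ := homOf (ObjectProperty.homMk p₀) (by
      rw [← Over.w d₁.hom, ← Category.assoc, hp₀', Over.w d₃.hom])
    let q : U₃ ⟶ U₂ := homOf (ObjectProperty.homMk q₀) (by
      rw [← Over.w d₂.hom, ← Category.assoc, hq₀', Over.w d₃.hom])
    obtain ⟨T₂, hT₂, hi₂⟩ := haff (A.1 ⊓ D) (A.2.inf hD) U₂ c₂ hc₂ r₂
    have hP₃ : P U₃ := ih (A.1 ⊓ D) (A.2.inf hD) U₃ c₃ hc₃ r₃
    have hU₁c : IsQuasiCompactSp U₁.obj.left.obj := by
      rw [isQuasiCompactSp_iff_isCompact_range hc₁, r₁]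
      exact (QuasiSeparatedSpace.inter_isCompact _ _ O.isOpen hOc D.isOpen hD.isCompact).image
        (Points.continuous_ofPt _)
    refine h4 U U₁ U₂ U₃ d₁ d₂ p q (h2 V U c hV hc hUc) hU₁c ⟨T₂, hT₂, hi₂⟩
      (isElemDistSq_of_openCover hd₁ hd₂ ?_) ?_ (ih D hD U₁ c₁ hc₁ r₁) (h3 U₂ T₂ hT₂ hi₂).2 hP₃
    · refine Set.eq_univ_of_forall fun z => ?_
      have hz : Points.map c.hom.left.hom z ∈ Points.ofPt e.hom '' _ := hr.le ⟨z, rfl⟩
      rw [hset, Set.image_union, ← r₁, ← r₂, ← h₁, ← h₂] at hz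
      have hcinj := (isEmbedding_map_of_immersion V.obj.left.property
        (repWith_mono (fun _ _ g (_ : IsOpenImmersion g) => (inferInstance : IsImmersion g)) hc)).1.injective
      rcases hz with ⟨y, hy⟩ | ⟨y, hy⟩
      · exact Or.inl ⟨y, hcinj ((Points.map_comp _ _ _).symm.trans hy)⟩
      · exact Or.inr ⟨y, hcinj ((Points.map_comp _ _ _).symm.trans hy)⟩
    · refine isPullback_openImm_inter hd₁ hd₂ (hp₀.trans hq₀.symm)
        (show RepWith @IsOpenImmersion (q₀ ≫ d₂.hom.left.hom) by rw [hq₀]; exact hd₃) ?_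
      change _ ⊆ Set.range (Points.map (q₀ ≫ d₂.hom.left.hom))
      rw [hq₀]
      rintro x ⟨⟨y₁, rfl⟩, ⟨y₂, hy₂⟩⟩
      have hx : Points.map c.hom.left.hom (Points.map d₁.hom.left.hom y₁) ∈
          Points.ofPt e.hom '' ((O ⊓ D : T.left.Opens) : Set ↥T.left) ∩
          Points.ofPt e.hom '' ((A.1 ⊓ D : T.left.Opens) : Set ↥T.left) := by
        refine ⟨r₁.le ⟨y₁, ?_⟩, r₂.le ⟨y₂, ?_⟩⟩
        · rw [← h₁, Points.map_comp]
        · rw [← h₂, Points.map_comp, hy₂]
      rw [← Set.image_inter hinj] at hx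
      obtain ⟨t, ⟨⟨htO, -⟩, htA⟩, ht⟩ := hx
      obtain ⟨y, hy⟩ := r₃.ge ⟨t, ⟨htO, htA⟩, ht⟩
      refine ⟨y, (isEmbedding_map_of_immersion V.obj.left.property
        (repWith_mono (fun _ _ g (_ : IsOpenImmersion g) => (inferInstance : IsImmersion g)) hc)).1.injective ?_⟩
      rw [← Points.map_comp, h₃, hy]

/-- The induction principle for a family of objects. -/
theorem family_induction [QuasiSeparatedSpace ↥S]
    (h1 : ∀ W, B W → IsQuasiCompactSp W.obj.left.obj ∧ IsQuasiSeparatedSp W.obj.left.obj)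
    (E : EtSpOver X) (hE : B E) : P E := by
  obtain ⟨hEc, hEs⟩ := h1 E hE
  obtain ⟨A₀, a₀, hA₀, hae, -⟩ := exists_affine_chart hEc
  -- the empty open subspace
  let W₀ : Space S := ⟨openSub (∅ : Set (Points E.obj.left.obj)),
    isAlgSpace_of_representable (repWith_openSubι isOpen_empty).1 E.obj.left.property⟩
  let j₀ : W₀ ⟶ E.obj.left := ObjectProperty.homMk (openSubι _)
  have hj₀ : RepWith @IsOpenImmersion j₀.hom := repWith_openSubι isOpen_empty
  have hW₀e : IsEmpty (Points W₀.obj) := ⟨fun z => (range_openSubι (∅ : Set (Points E.obj.left.obj))).le ⟨z, rfl⟩⟩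
  have hW₀c : IsQuasiCompactSp W₀.obj := by
    rw [isQuasiCompactSp_iff W₀.property]
    exact Finite.compactSpace
  have hW₀ : ∃ T : Over S, IsAffine T.left ∧ Nonempty ((yon S).obj T ≅ W₀.obj) := by
    let T : Over S := Over.mk ((⊥ : A₀.left.Opens).ι ≫ A₀.hom)
    let a : T ⟶ A₀ := Over.homMk (⊥ : A₀.left.Opens).ι rfl
    have hTe : IsEmpty ↥T.left := ⟨fun t => (Scheme.Opens.range_ι (⊥ : A₀.left.Opens)).le ⟨t, rfl⟩⟩
    obtain ⟨g, hg⟩ := exists_factor_of_range hj₀ ((yon S).map a ≫ a₀) (by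
      rintro _ ⟨z, rfl⟩
      obtain ⟨z, rfl⟩ := (Points.schemeEquiv T).surjective z
      exact (hTe.false z).elim)
    have hget : RepWith @Etale g :=
      have := mono_openImm hj₀
      repWith_of_isPullback (isPullback_of_mono g j₀.hom) (by
        rw [hg]; exact repWith_comp ((repWith_yon_map_iff _ _).2 (inferInstanceAs (Etale (⊥ : A₀.left.Opens).ι))) hae)
    have : Mono g := mono_of_yon g fun T' x y _ => by
      obtain ⟨x, rfl⟩ := (yon S).map_surjective x
      obtain ⟨y, rfl⟩ := (yon S).map_surjective y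
      congr 1
      apply Over.OverMorphism.ext
      have : IsEmpty ↥T'.left := ⟨fun t => hTe.false (x.left t)⟩
      exact isInitialOfIsEmpty.hom_ext _ _
    have hgo : RepWith @IsOpenImmersion g :=
      repWith_openImmersion_of_isEtaleMor_mono (IsAlgSpace.yon_obj T) W₀.property g (isEtaleMor_of_repWith g hget)
    have := isIso_of_isOpenImmersion_of_surjective hgo (fun z => (hW₀e.false z).elim)
    exact ⟨T, isAffineOpen_bot _, ⟨asIso g⟩⟩
  have key : ∀ hs : RepWith @IsOpenImmersion (𝟙 E.obj.left : E.obj.left ⟶ E.obj.left).hom,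
      P (openObj E (𝟙 E.obj.left) hs) := by
    refine enlarge_induction E.obj.left hEc hEs
      (fun U c => ∀ hc : RepWith @IsOpenImmersion c.hom, P (openObj E c hc)) W₀ j₀ hj₀ hW₀c ?_ ?_
    · intro hc
      obtain ⟨T, hT, hi⟩ := hW₀
      exact (h3 _ T hT hi).2
    · intro W₁ W₂ V j₁ j₂ k m f hj₁ hj₂ hk hm hW₁c hW₂c ⟨T, hT, ⟨e⟩⟩ hsq hP hc
      have hW₂ : B (openObj E j₂ hj₂) := h2 E _ (homOf j₂ rfl) hE hj₂ hW₂c
      let U' : EtSpOver X := openObj E j₁ hj₁
      let W' : EtSpOver X := openObj E j₂ hj₂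
      let jm : U' ⟶ W' := homOf k (by
        change k ≫ j₂ ≫ E.obj.hom = j₁ ≫ E.obj.hom
        rw [← Category.assoc, hk])
      let V' : EtSpOver X := ⟨Over.mk (f ≫ j₂ ≫ E.obj.hom),
        isEtaleMor_comp hsq.2.1 (isEtaleMor_comp (isEtaleMor_openImm hj₂) E.property)⟩
      let fm : V' ⟶ W' := homOf f rfl
      have hOo : IsOpen (Points.map f.hom ⁻¹' Set.range (Points.map k.hom)) :=
        (isOpen_range_map_of_openImmersion hsq.1).preimage (Points.continuous_map _)
      let Q : Space S := ⟨openSub (Points.map f.hom ⁻¹' Set.range (Points.map k.hom)),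
        isAlgSpace_of_representable (repWith_openSubι hOo).1 V.property⟩
      let qq : Q ⟶ V := ObjectProperty.homMk (openSubι _)
      have hqq : RepWith @IsOpenImmersion qq.hom := repWith_openSubι hOo
      have hrq : Set.range (Points.map qq.hom) = Points.map f.hom ⁻¹' Set.range (Points.map k.hom) :=
        range_openSubι _
      obtain ⟨pp, hpp⟩ := exists_factor_of_range hsq.1 (qq.hom ≫ f.hom) (by
        rintro _ ⟨z, rfl⟩
        rw [Points.map_comp]
        exact hrq.le ⟨z, rfl⟩)
      have hpp' : (ObjectProperty.homMk pp : Q ⟶ W₁) ≫ k = qq ≫ f := ObjectProperty.hom_ext _ hpp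
      let UV : EtSpOver X := ⟨Over.mk (qq ≫ f ≫ j₂ ≫ E.obj.hom),
        isEtaleMor_comp (isEtaleMor_openImm hqq) V'.property⟩
      let qm : UV ⟶ V' := homOf qq rfl
      let pm : UV ⟶ U' := homOf (ObjectProperty.homMk pp : Q ⟶ W₁) (by
        change (ObjectProperty.homMk pp : Q ⟶ W₁) ≫ j₁ ≫ E.obj.hom = qq ≫ f ≫ j₂ ≫ E.obj.hom
        rw [← hk, Category.assoc, reassoc_of% hpp'])
      have := mono_openImm hsq.1
      have := mono_openImm hqq
      have sq : IsPullback pp qq.hom k.hom f.hom := isPullback_of_mono_lifts hpp fun T' y x ex => by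
        obtain ⟨r, hr⟩ := exists_factor_of_range hqq y (by
          rintro _ ⟨z, rfl⟩
          refine hrq.ge ⟨Points.map x z, ?_⟩
          rw [← Points.map_comp, ex, Points.map_comp])
        exact ⟨r, hr⟩
      have hVqc := (qc_qs_of_iso_affine T e).1
      have hQc : IsQuasiCompactSp Q.obj := isQuasiCompactSp_of_mor Q.property W₁.property
        (isQuasiCompactMor_of_isPullback sq.flip (isQuasiCompactMor_of_qc_qs V.property W₂.property f.hom hVqc
          (isQuasiSeparatedSp_openImm hj₂ hEs))) hW₁c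
      let O : T.left.Opens := ⟨Points.ofPt e.hom ⁻¹' (Points.map f.hom ⁻¹' Set.range (Points.map k.hom)),
        hOo.preimage (Points.continuous_ofPt _)⟩
      have hesurj : Function.Surjective (Points.ofPt e.hom) := fun z => by
        obtain ⟨y, hy⟩ := (bijective_map_iso (e := e.hom)).2 z
        obtain ⟨t, rfl⟩ := (Points.schemeEquiv T).surjective y
        exact ⟨t, (Points.ofPt_eq_map_ofScheme _ _).trans hy⟩
      have hOc : IsCompact (O : Set ↥T.left) := by
        have h := (isQuasiCompactSp_iff_isCompact_range (f := qq.hom) hqq).1 hQc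
        rw [hrq] at h
        have hemb : Topology.IsEmbedding (Points.ofPt e.hom) := by
          have he : RepWith @Etale e.hom := MorphismProperty.of_isIso (RepWith (S := S) @Etale) e.hom
          exact (IsOpenEmbedding.of_continuous_injective_isOpenMap (Points.continuous_ofPt _)
            (fun a b h => by
              rw [Points.ofPt_eq_map_ofScheme, Points.ofPt_eq_map_ofScheme] at h
              exact (Points.schemeEquiv T).injective ((bijective_map_iso (e := e.hom)).1 h))
            (isOpenMap_ofPt _ he)).isEmbedding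
        rw [hemb.isCompact_iff]
        have hO' : Points.ofPt e.hom '' (O : Set ↥T.left) =
            Points.map f.hom ⁻¹' Set.range (Points.map k.hom) :=
          Set.image_preimage_eq (Points.map f.hom ⁻¹' Set.range (Points.map k.hom)) hesurj
        rw [hO']
        exact h
      have hPUV : P UV := prop_open_of_affine B P h2 h3 h4 V' T e O hOc ⊤ (isAffineOpen_top _) UV qm hqq (by
        rw [inf_top_eq]
        exact hrq.trans (Set.image_preimage_eq _ hesurj).symm)
      exact h4 W' U' V' UV jm fm pm qm hW₂ hW₁c ⟨T, hT, ⟨e⟩⟩ hsq sq (hP hj₁) (h3 V' T hT ⟨e⟩).2 hPUV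
  have hE' := key (repWith_openImm_id E.obj.left)
  have : openObj E (𝟙 E.obj.left) (repWith_openImm_id E.obj.left) = E := by
    obtain ⟨⟨El, ⟨⟨⟩⟩, Eh⟩, hEp⟩ := E
    simp only [openObj, Over.mk]
    congr 1
  rw [← this]
  exact hE'

end

end Groth.Agent.Induction15
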