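import Groth.Agent.Lib.Induction15.Enlarge
import Groth.Agent.Lib.AlgSpDecent.NoethComp
import Groth.Agent.Lib.AlgSpace.Coprod

/-!
# An affine distinguished square enlarging an open subspace
-/

universe u

set_option backward.isDefEq.respectTransparency.types false

open CategoryTheory CategoryTheory.Limits AlgebraicGeometry AlgSp Topology TopologicalSpace
open Groth.Agent.AlgSpace Groth.Agent.AlgSpDecent

namespace Groth.Agent.Induction15

variable {S : Scheme.{u}}

theorem noetherian_points {F : Sp S} (hN : IsLocNoethSp F)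
    (hc : IsQuasiCompactSp F) : NoetherianSpace (Points F) := by
  obtain ⟨U, φ, hU, hφ, hs⟩ := exists_affine_chart hc
  have := isLocallyNoetherian_of_etale_chart hN hφ
  have : IsNoetherian U.left := {}
  exact noetherianSpace_of_surjective (Points.ofPt φ) (Points.continuous_ofPt φ) (surjective_ofPt hs)

/-- An elementary distinguished square strictly enlarging an open subspace, with the affine piece
surjecting onto the old part. -/
theorem exists_affine_square [QuasiSeparatedSpace S] {X U : Space S}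
    (hqc : IsQuasiCompactSp X.obj) (hqs : IsQuasiSeparatedSp X.obj) (hN : IsLocNoethSp X.obj)
    (j : U ⟶ X) (hj : RepWith @IsOpenImmersion j.hom)
    (hne : Set.range (Points.map j.hom) ≠ Set.univ) :
    ∃ (V : Over S) (_ : IsAffine V.left) (W : Space S) (jW : W ⟶ X) (jU : U ⟶ W)
      (φ : (ofScheme S).obj V ⟶ W) (P : Space S) (p : P ⟶ U) (q : P ⟶ (ofScheme S).obj V),
      RepWith @Etale (φ ≫ jW).hom ∧ RepWith @IsOpenImmersion jW.hom ∧ jU ≫ jW = j ∧
        Set.range (Points.map jW.hom) =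
          Set.range (Points.map j.hom) ∪ Set.range (Points.map (φ ≫ jW).hom) ∧
        Set.range (Points.map jW.hom) ≠ Set.range (Points.map j.hom) ∧
        IsElemDistSq jU.hom φ.hom ∧ IsPullback p.hom q.hom jU.hom φ.hom ∧ IsDominantMor p.hom := by
  obtain ⟨n, Uo, jo, k, T, i, hjo, hkj, h1, hemp, hi, hV⟩ := Groth.Agent.S10419.result X hqc hqs
  let R : Set (Points X.obj) := Set.range (Points.map j.hom)
  have hex : ∃ p, 1 ≤ p ∧ Set.range (Points.map (jo (p + 1)).hom) ⊆ R ∧
      ¬ Set.range (Points.map (jo p).hom) ⊆ R := by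
    by_contra hno
    push Not at hno
    have hall : ∀ q p, p + q = n + 1 → 1 ≤ p → Set.range (Points.map (jo p).hom) ⊆ R := by
      intro q
      induction q with
      | zero =>
        intro p hp _
        rw [Nat.add_zero] at hp
        subst hp
        rintro _ ⟨z, rfl⟩
        exact hemp.elim z
      | succ q ih => exact fun p hp hp1 => hno p hp1 (ih (p + 1) (by omega) (by omega))
    refine hne (Set.eq_univ_of_forall fun x => ?_)
    have : IsIso (jo 1).hom := inferInstanceAs (IsIso ((ObjectProperty.ι _).map (jo 1)))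
    exact hall n 1 (by omega) le_rfl ((bijective_map_iso (e := (jo 1).hom)).2 x)
  obtain ⟨p, hp1, hD, hnot⟩ := hex
  obtain ⟨Vp, fp, -, -, hfe, hfs, hiso⟩ := hV p hp1
  obtain ⟨x, ⟨z, rfl⟩, hzR⟩ := Set.not_subset.1 hnot
  obtain ⟨v, rfl⟩ := surjective_ofPt hfs z
  obtain ⟨A, hA, hvA, -⟩ :=
    Vp.left.isBasis_affineOpens.exists_subset_of_mem_open (Set.mem_univ v) isOpen_univ
  obtain ⟨A, hA, rfl⟩ := hA
  have hgA : RepWith @Etale (fp ≫ (jo p).hom) :=
    repWith_comp hfe (repWith_mono (fun _ _ g (_ : IsOpenImmersion g) => (inferInstance : Etale g)) (hjo p))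
  have hO : IsOpen (R ∪ Points.ofPt (fp ≫ (jo p).hom) '' (A : Set ↥Vp.left)) :=
    (isOpen_range_map_of_openImmersion hj).union (isOpenMap_ofPt _ hgA _ A.isOpen)
  let W : Space S := ⟨openSub (R ∪ Points.ofPt (fp ≫ (jo p).hom) '' (A : Set ↥Vp.left)),
    isAlgSpace_of_representable (repWith_openSubι hO).1 X.property⟩
  let jW : W ⟶ X := ObjectProperty.homMk (openSubι _)
  have hjW : RepWith @IsOpenImmersion jW.hom := repWith_openSubι hO
  have hrW : Set.range (Points.map jW.hom) = R ∪ Points.ofPt (fp ≫ (jo p).hom) '' (A : Set ↥Vp.left) :=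
    range_openSubι _
  obtain ⟨g, hg⟩ := exists_factor_of_range hjW j.hom (by rw [hrW]; exact Set.subset_union_left)
  let jU : U ⟶ W := ObjectProperty.homMk g
  have hjU : jU ≫ jW = j := ObjectProperty.hom_ext _ hg
  have hT : Set.range (Points.map (jo p).hom) ⊆
      Set.range (Points.map j.hom) ∪ Set.range (Points.map (i p ≫ jo p).hom) := by
    rintro _ ⟨z, rfl⟩
    by_cases hz : z ∈ Set.range (Points.map (k p).hom)
    · obtain ⟨y, rfl⟩ := hz
      refine Or.inl (hD ⟨y, ?_⟩)
      rw [← Points.map_comp]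
      exact congrArg (fun q : Uo (p + 1) ⟶ X => Points.map q.hom y) (hkj p).symm
    · obtain ⟨y, hy⟩ := (hi p).2.1.ge hz
      refine Or.inr ⟨y, ?_⟩
      change Points.map ((i p).hom ≫ (jo p).hom) y = _
      rw [Points.map_comp, hy]
  obtain ⟨f, hjUo, hfet', T₂, P₂, i₂, p₁, p₂, hi₂, hsqT, hp₁⟩ :=
    isElemDistSq_piece X hj hjW hjU (hjo p) hfe (hi p).1 hT hiso A hrW
  -- the affine chart of the old part
  have hX := noetherian_points hN hqc
  have hUc : IsQuasiCompactSp U.obj :=
    (isQuasiCompactSp_iff_isCompact_range hj).2 (NoetherianSpace.isCompact _)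
  obtain ⟨V₀, a₀, hV₀, ha₀e, ha₀s⟩ := exists_affine_chart hUc
  let A' : Over S := Over.mk (Scheme.Opens.ι A ≫ Vp.hom)
  have hA' : IsAffine A'.left := hA
  let V : Over S := Over.mk (coprod.desc A'.hom V₀.hom)
  have hV' : IsAffine V.left := inferInstanceAs (IsAffine (A'.left ⨿ V₀.left))
  let inl' : A' ⟶ V := Over.homMk coprod.inl (coprod.inl_desc _ _)
  let inr' : V₀ ⟶ V := Over.homMk coprod.inr (coprod.inr_desc _ _)
  have hl' : RepWith @IsOpenImmersion ((yon S).map inl') :=
    (repWith_yon_map_iff _ _).2 (inferInstanceAs (IsOpenImmersion (coprod.inl : A'.left ⟶ A'.left ⨿ V₀.left)))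
  let T' : ULift.{u} Bool → Over S := fun b => bif b.down then A' else V₀
  let π : ∀ b, T' b ⟶ V := fun b => match b with
    | ⟨true⟩ => inl'
    | ⟨false⟩ => inr'
  have hπ : ∀ b, IsOpenImmersion (π b).left := fun b => match b with
    | ⟨true⟩ => inferInstanceAs (IsOpenImmersion (coprod.inl : A'.left ⟶ A'.left ⨿ V₀.left))
    | ⟨false⟩ => inferInstanceAs (IsOpenImmersion (coprod.inr : V₀.left ⟶ A'.left ⨿ V₀.left))
  have hc : ∀ t : ↥V.left, ∃ b v, (π b).left v = t := fun t => by
    obtain ⟨x | x, hx⟩ := (coprodMk A'.left V₀.left).surjective t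
    · exact ⟨⟨true⟩, x, by rw [← hx, coprodMk_inl]; rfl⟩
    · exact ⟨⟨false⟩, x, by rw [← hx, coprodMk_inr]; rfl⟩
  let l : ∀ b, (yon S).obj (T' b) ⟶ W.obj := fun b => match b with
    | ⟨true⟩ => f
    | ⟨false⟩ => a₀ ≫ jU.hom
  obtain ⟨φ₀, hφ₀, -⟩ := existsUnique_glue π hπ hc l fun a b Z x y e => by
    match a, b with
    | ⟨true⟩, ⟨true⟩ =>
      have : Mono inl' := (Over.forget S).mono_of_mono_map
        (inferInstanceAs (Mono (coprod.inl : A'.left ⟶ A'.left ⨿ V₀.left)))
      have h' : x ≫ inl' = y ≫ inl' := e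
      rw [cancel_mono] at h'
      rw [h']
    | ⟨false⟩, ⟨false⟩ =>
      have : Mono inr' := (Over.forget S).mono_of_mono_map
        (inferInstanceAs (Mono (coprod.inr : V₀.left ⟶ A'.left ⨿ V₀.left)))
      have h' : x ≫ inr' = y ≫ inr' := e
      rw [cancel_mono] at h'
      rw [h']
    | ⟨true⟩, ⟨false⟩ =>
      have : IsEmpty ↥Z.left := ⟨fun z => inl_ne_inr A'.left V₀.left (x.left z) (y.left z)
        (congrArg (fun q : Z ⟶ V => q.left z) e)⟩
      exact hom_ext_of_isEmpty _ _
    | ⟨false⟩, ⟨true⟩ =>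
      have : IsEmpty ↥Z.left := ⟨fun z => inr_ne_inl A'.left V₀.left (y.left z) (x.left z)
        (congrArg (fun q : Z ⟶ V => q.left z) e)⟩
      exact hom_ext_of_isEmpty _ _
  have hφl : (yon S).map inl' ≫ φ₀ = f := hφ₀ ⟨true⟩
  have hφr : (yon S).map inr' ≫ φ₀ = a₀ ≫ jU.hom := hφ₀ ⟨false⟩
  let φ : (ofScheme S).obj V ⟶ W := ObjectProperty.homMk φ₀
  have hjWe : RepWith @Etale jW.hom :=
    repWith_mono (fun _ _ g (_ : IsOpenImmersion g) => (inferInstance : Etale g)) hjW
  have hfe' : RepWith @Etale f := by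
    have := hfet' (𝟙 _) ((repWith_isMultiplicative (S := S) @Etale).id_mem _)
    rwa [Category.id_comp] at this
  have hje : RepWith @Etale j.hom :=
    repWith_mono (fun _ _ g (_ : IsOpenImmersion g) => (inferInstance : Etale g)) hj
  have he : RepWith @Etale (φ₀ ≫ jW.hom) := by
    have hl : ∀ b, RepWith @Etale ((yon S).map (π b) ≫ φ₀ ≫ jW.hom) := fun b => by
      match b with
      | ⟨true⟩ =>
        rw [← Category.assoc, hφ₀ ⟨true⟩]
        exact repWith_comp hfe' hjWe
      | ⟨false⟩ =>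
        rw [← Category.assoc, hφ₀ ⟨false⟩]
        change RepWith @Etale ((a₀ ≫ jU.hom) ≫ jW.hom)
        rw [Category.assoc, show jU.hom ≫ jW.hom = j.hom from hg]
        exact repWith_comp ha₀e hje
    have : ∀ b, IsOpenImmersion (π b).left := hπ
    refine repWith_of_source_opens (X.property.representable_from_yon _) (fun b => (π b).left.opensRange)
      (fun t => hc t) fun b => ?_
    let e : Over.mk ((π b).left.opensRange.ι ≫ V.hom) ⟶ T' b :=
      Over.homMk (π b).left.isoOpensRange.inv (by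
        change _ ≫ (T' b).hom = _
        rw [← Over.w (π b), Scheme.Hom.isoOpensRange_inv_comp_assoc]
        rfl)
    have hee : overArrow (π b).left.opensRange.ι = e ≫ π b :=
      Over.OverMorphism.ext (Scheme.Hom.isoOpensRange_inv_comp (π b).left).symm
    rw [hee, Functor.map_comp, Category.assoc]
    exact repWith_comp ((repWith_yon_map_iff _ _).2 (inferInstanceAs (Etale (π b).left.isoOpensRange.inv))) (hl b)
  have hφe : RepWith @Etale φ₀ := by
    have := mono_openImm hjW
    exact repWith_of_isPullback (isPullback_of_mono φ₀ jW.hom) he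
  have := hp₁
  have hσ : (inv p₁ ≫ p₂) ≫ f = i₂ := by rw [Category.assoc, ← hsqT.w, IsIso.inv_hom_id_assoc]
  have hsub : (Set.range (Points.map jU.hom))ᶜ ⊆ Set.range (Points.map f) := by
    rw [← hi₂.2.1]
    rintro _ ⟨z, rfl⟩
    exact ⟨Points.map (inv p₁ ≫ p₂) z, by rw [← Points.map_comp, hσ]⟩
  have hran : Set.range (Points.map jW.hom) = R ∪ Set.range (Points.map (φ₀ ≫ jW.hom)) := by
    refine subset_antisymm ?_ (Set.union_subset (hrW.symm ▸ Set.subset_union_left) ?_)
    · rintro _ ⟨w, rfl⟩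
      by_cases hw : w ∈ Set.range (Points.map jU.hom)
      · obtain ⟨u, rfl⟩ := hw
        exact Or.inl ⟨u, by rw [← Points.map_comp]; exact (congrArg (fun q => Points.map q u) hg).symm⟩
      · obtain ⟨y, rfl⟩ := hsub hw
        refine Or.inr ⟨Points.map ((yon S).map inl') y, ?_⟩
        rw [← Points.map_comp, ← Points.map_comp, ← Category.assoc, hφl]
    · rintro _ ⟨y, rfl⟩
      exact ⟨Points.map φ₀ y, (Points.map_comp _ _ _).symm⟩
  have hPo : IsOpen (Points.map φ₀ ⁻¹' Set.range (Points.map jU.hom)) :=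
    (isOpen_range_map_of_openImmersion hjUo).preimage (Points.continuous_map _)
  let P : Space S := ⟨openSub (Points.map φ₀ ⁻¹' Set.range (Points.map jU.hom)),
    isAlgSpace_of_representable (repWith_openSubι hPo).1 (IsAlgSpace.yon_obj V)⟩
  let q₀ : P.obj ⟶ (yon S).obj V := openSubι _
  have hrq : Set.range (Points.map q₀) = Points.map φ₀ ⁻¹' Set.range (Points.map jU.hom) :=
    range_openSubι _
  obtain ⟨pp, hpp⟩ := exists_factor_of_range hjUo (q₀ ≫ φ₀) (by
    rintro _ ⟨z, rfl⟩
    rw [Points.map_comp]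
    exact hrq.le ⟨z, rfl⟩)
  have := mono_openImm hjUo
  have hqo : RepWith @IsOpenImmersion q₀ := repWith_openSubι hPo
  have := mono_openImm hqo
  have sq : IsPullback pp q₀ jU.hom φ₀ := isPullback_of_mono_lifts hpp fun T' y x ex => by
    obtain ⟨r, hr⟩ := exists_factor_of_range hqo y (by
      rintro _ ⟨z, rfl⟩
      refine hrq.ge ⟨Points.map x z, ?_⟩
      rw [← Points.map_comp, ex, Points.map_comp])
    exact ⟨r, hr⟩
  have := mono_openImm hl'
  have hdist : IsElemDistSq jU.hom φ₀ := by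
    refine isElemDistSq_of_lift hjUo (isEtaleMor_of_repWith φ₀ hφe) i₂ hi₂
      (inv p₁ ≫ p₂ ≫ (yon S).map inl') ?_ ?_
    · simp only [Category.assoc, hφl]
      simpa only [Category.assoc] using hσ
    · intro Q c b e
      obtain ⟨b', hb'⟩ := exists_factor_of_range hl' b (by
        rintro _ ⟨y, rfl⟩
        have hy : Points.map φ₀ (Points.map b y) ∉ Set.range (Points.map jU.hom) := by
          rw [← Points.map_comp, ← e, Points.map_comp]
          exact hi₂.2.1.le ⟨_, rfl⟩
        obtain ⟨t, ht⟩ := (Points.schemeEquiv V).surjective (Points.map b y)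
        obtain ⟨x | x, hx⟩ := (coprodMk A'.left V₀.left).surjective t
        · refine ⟨Points.ofScheme A' x, ?_⟩
          rw [← ht, ← Points.ofPt_eq_map_ofScheme, ofPt_map_eq, ← hx, coprodMk_inl]
          rfl
        · refine absurd ⟨Points.ofPt a₀ x, ?_⟩ hy
          rw [Points.map_ofPt, ← hφr, ← Points.map_ofPt, ← ht, ofPt_map_eq, ← hx, coprodMk_inr]
          rfl)
      have e' : c ≫ i₂ = b' ≫ f := by rw [e, ← hb', Category.assoc, hφl]
      have h2 : hsqT.lift c b' e' = c ≫ inv p₁ := by rw [IsIso.eq_comp_inv, hsqT.lift_fst]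
      rw [← hb', ← hsqT.lift_snd c b' e', h2]
      simp only [Category.assoc]
  refine ⟨V, hV', W, jW, jU, φ, P, ObjectProperty.homMk pp,
    (ObjectProperty.homMk q₀ : P ⟶ (ofScheme S).obj V), he, hjW, hjU, hran, ?_, hdist, sq, ?_⟩
  · intro h
    refine hzR (h.le (hrW.ge (Or.inr ⟨v, hvA, ?_⟩)))
    rw [Points.map_ofPt]
  · refine Function.Surjective.denseRange fun u => ?_
    obtain ⟨v, rfl⟩ := surjective_ofPt ha₀s u
    obtain ⟨r, hr⟩ := hrq.ge (show Points.map ((yon S).map inr') (Points.ofScheme V₀ v) ∈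
        Points.map φ₀ ⁻¹' Set.range (Points.map jU.hom) from ⟨Points.ofPt a₀ v, by
      rw [← Points.map_comp, hφr, Points.map_comp, ← Points.ofPt_eq_map_ofScheme]⟩)
    refine ⟨r, (isEmbedding_map_of_immersion W.property
      (repWith_mono (fun _ _ g (_ : IsOpenImmersion g) => (inferInstance : IsImmersion g)) hjUo)).1.injective ?_⟩
    change Points.map jU.hom (Points.map pp r) = _
    rw [← Points.map_comp pp, hpp, Points.map_comp, hr, ← Points.map_comp, hφr, Points.map_comp,
      ← Points.ofPt_eq_map_ofScheme]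

end Groth.Agent.Induction15
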